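import Mathlib
import Cfsg.Prelude.Def_Transfer
import Cfsg.Agent.Lib.Invol.Dihedral

/-!
A self-centralizing Sylow 3-subgroup of order nine whose automizer is a four-group: the normalizer
is a copy of `D₃ × D₃`.
-/

set_option autoImplicit false
set_option linter.style.haveILetI false
set_option linter.unusedSectionVars false

namespace Cfsg.Agent.Fus.NineFour

open Subgroup

abbrev D := DihedralGroup 3

universe u

/-- The model of the normalizer. -/
structure Model (G : Type u) [Group G] (T : Sylow 3 G) where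
  φ : D × D →* G
  inj : Function.Injective φ
  range : φ.range = normalizer ((T : Subgroup G) : Set G)
  mem : ∀ p : D × D, φ p ∈ (T : Subgroup G) ↔ p ^ 3 = 1

variable {G : Type u} [Group G] [Finite G] {T : Sylow 3 G}

/-- Interchanging the two factors. -/
def Model.swap (M : Model G T) : Model G T where
  φ := M.φ.comp (MulEquiv.prodComm : D × D ≃* D × D).toMonoidHom
  inj := M.inj.comp (MulEquiv.prodComm : D × D ≃* D × D).injective
  range := by
    rw [MonoidHom.range_comp, MonoidHom.range_eq_top.mpr (MulEquiv.prodComm : D × D ≃* D × D).surjective,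
      ← MonoidHom.range_eq_map]
    exact M.range
  mem p := by
    rw [MonoidHom.comp_apply, M.mem]
    obtain ⟨x, y⟩ := p
    simp [Prod.ext_iff, and_comm]

theorem exists_model (hT : IsElementaryAbelian 3 (T : Subgroup G)) (hcard : Nat.card T = 9)
    (hC : centralizer ((T : Subgroup G) : Set G) = T)
    (hN : Nat.card (normalizer ((T : Subgroup G) : Set G)) = 36)
    (hsq : ∀ x ∈ normalizer ((T : Subgroup G) : Set G), x * x ∈ (T : Subgroup G)) :
    Nonempty (Model G T) := by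
  classical
  set N := normalizer ((T : Subgroup G) : Set G) with hNdef
  have h3 : ∀ t ∈ (T : Subgroup G), t ^ 3 = 1 := hT.2
  have hcomm : ∀ s ∈ (T : Subgroup G), ∀ t ∈ (T : Subgroup G), s * t = t * s := fun s hs t ht =>
    congrArg Subtype.val (hT.1.is_comm.comm ⟨s, hs⟩ ⟨t, ht⟩)
  have hTN : (T : Subgroup G) ≤ N := Subgroup.le_normalizer
  -- a complement
  obtain ⟨V, hV⟩ : ∃ V : Subgroup N, Nat.card V = 2 ^ 2 := by
    haveI := Fact.mk Nat.prime_two
    exact Sylow.exists_subgroup_card_pow_prime 2 (by rw [hN]; norm_num)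
  set W := V.map N.subtype with hW
  have hW4 : Nat.card W = 4 := by
    rw [hW, Subgroup.card_map_of_injective N.subtype_injective, hV]; norm_num
  have hWN : W ≤ N := Subgroup.map_subtype_le V
  have hWT : ∀ v ∈ W, v ∈ (T : Subgroup G) → v = 1 := by
    intro v hv hvT
    have h1 : orderOf v ∣ 4 := hW4 ▸ Subgroup.orderOf_dvd_natCard W hv
    have h2 : orderOf v ∣ 3 := orderOf_dvd_of_pow_eq_one (h3 v hvT)
    have : orderOf v ∣ Nat.gcd 4 3 := Nat.dvd_gcd h1 h2
    exact orderOf_eq_one_iff.mp (Nat.dvd_one.mp this)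
  have hWsq : ∀ v ∈ W, v * v = 1 := fun v hv => hWT _ (mul_mem hv hv) (hsq v (hWN hv))
  have hWinv : ∀ v ∈ W, v⁻¹ = v := fun v hv => inv_eq_of_mul_eq_one_right (hWsq v hv)
  have hWc : ∀ v ∈ W, ∀ w ∈ W, v * w = w * v := fun v hv w hw => by
    have := hWinv _ (mul_mem hv hw)
    rw [mul_inv_rev, hWinv v hv, hWinv w hw] at this
    exact this.symm
  have hfaith : ∀ v ∈ W, (∀ t ∈ (T : Subgroup G), v * t * v⁻¹ = t) → v = 1 := fun v hv h =>
    hWT v hv (hC ▸ Subgroup.mem_centralizer_iff.mpr fun t ht => (mul_inv_eq_iff_eq_mul.mp (h t ht)).symm)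
  have hnorm : ∀ v ∈ W, ∀ t ∈ (T : Subgroup G), v * t * v⁻¹ ∈ (T : Subgroup G) := fun v hv t ht =>
    (Subgroup.mem_normalizer_iff.mp (hWN hv) t).mp ht
  have hinvol : ∀ v ∈ W, ∀ t : G, v * (v * t * v⁻¹) * v⁻¹ = t := fun v hv t => by
    calc v * (v * t * v⁻¹) * v⁻¹ = (v * v) * t * (v * v)⁻¹ := by group
      _ = t := by rw [hWsq v hv]; group
  -- an involution with a fixed point
  obtain ⟨v₁, hv₁, hv₁1⟩ : ∃ v ∈ W, v ≠ 1 := by
    by_contra hcon
    push Not at hcon
    have : W = ⊥ := (Subgroup.eq_bot_iff_forall W).mpr hcon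
    rw [this, Subgroup.card_bot] at hW4
    omega
  obtain ⟨v₂, hv₂, hv₂1, hv₂2⟩ : ∃ v ∈ W, v ≠ 1 ∧ v ≠ v₁ := by
    by_contra hcon
    push Not at hcon
    have hle : W ≤ zpowers v₁ := fun v hv => by
      by_cases e : v = 1
      · exact e ▸ one_mem _
      · exact (hcon v hv e).symm ▸ Subgroup.mem_zpowers v₁
    have := Subgroup.card_le_of_le hle
    rw [hW4, Nat.card_zpowers] at this
    have h2 : orderOf v₁ ∣ 2 := orderOf_dvd_of_pow_eq_one (by rw [pow_two]; exact hWsq v₁ hv₁)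
    have := Nat.le_of_dvd (by norm_num) h2
    omega
  have hinv_or : ∀ v ∈ W, (∀ t ∈ (T : Subgroup G), v * t * v⁻¹ = t⁻¹) ∨
      ∃ h ∈ (T : Subgroup G), h ≠ 1 ∧ v * h * v⁻¹ = h := by
    intro v hv
    by_contra hcon
    push Not at hcon
    obtain ⟨⟨t, ht, hne⟩, hfix⟩ := hcon
    refine hfix (t * (v * t * v⁻¹)) (mul_mem ht (hnorm v hv t ht))
      (fun e => hne (eq_inv_of_mul_eq_one_right e)) ?_
    have e : v * (t * (v * t * v⁻¹)) * v⁻¹ = (v * t * v⁻¹) * (v * (v * t * v⁻¹) * v⁻¹) := by group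
    rw [e, hinvol v hv, hcomm _ (hnorm v hv t ht) t ht]
  obtain ⟨a, ha, ha1, h, hhT, hh1, hah⟩ :
      ∃ a ∈ W, a ≠ 1 ∧ ∃ h ∈ (T : Subgroup G), h ≠ 1 ∧ a * h * a⁻¹ = h := by
    rcases hinv_or v₁ hv₁ with h1 | h1
    · rcases hinv_or v₂ hv₂ with h2 | h2
      · exfalso
        refine hv₂2 ?_
        have := hfaith (v₁ * v₂) (mul_mem hv₁ hv₂) fun t ht => by
          rw [show v₁ * v₂ * t * (v₁ * v₂)⁻¹ = v₁ * (v₂ * t * v₂⁻¹) * v₁⁻¹ by group, h2 t ht,
            h1 _ (inv_mem ht), inv_inv]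
        rw [← hWinv v₁ hv₁, inv_mul_eq_one] at this
        exact this.symm
      · exact ⟨v₂, hv₂, hv₂1, h2⟩
    · exact ⟨v₁, hv₁, hv₁1, h1⟩
  obtain ⟨g, hgT, hg1, hag⟩ : ∃ g ∈ (T : Subgroup G), g ≠ 1 ∧ a * g * a⁻¹ = g⁻¹ := by
    obtain ⟨t, ht, hne⟩ : ∃ t ∈ (T : Subgroup G), a * t * a⁻¹ ≠ t := by
      by_contra hcon
      push Not at hcon
      exact ha1 (hfaith a ha hcon)
    refine ⟨t * (a * t * a⁻¹)⁻¹, mul_mem ht (inv_mem (hnorm a ha t ht)),
      fun e => hne (mul_inv_eq_one.mp e).symm, ?_⟩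
    rw [show a * (t * (a * t * a⁻¹)⁻¹) * a⁻¹ = (a * t * a⁻¹) * (a * (a * t * a⁻¹) * a⁻¹)⁻¹ by group,
      hinvol a ha, mul_inv_rev, inv_inv]
  have hg3 := h3 g hgT
  have hh3 := h3 h hhT
  have hgne : g ≠ g⁻¹ := fun e => hg1 (by
    have h2 : g * g = 1 := mul_eq_one_iff_eq_inv.mpr e
    have : g ^ 3 = g := by rw [pow_succ, pow_two, h2, one_mul]
    exact this.symm.trans hg3)
  have hghT : ∀ i j : ℕ, g ^ i * h ^ j ∈ (T : Subgroup G) := fun i j =>
    mul_mem (pow_mem hgT i) (pow_mem hhT j)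
  -- the plane is generated by `g` and `h`
  have hcoord : ∀ i j : ℕ, i < 3 → j < 3 → g ^ i * h ^ j = 1 → i = 0 ∧ j = 0 := by
    intro i j hi hj e
    have e2 : a * (g ^ i * h ^ j) * a⁻¹ = 1 := by rw [e, mul_one, mul_inv_cancel]
    rw [show a * (g ^ i * h ^ j) * a⁻¹ = (a * g ^ i * a⁻¹) * (a * h ^ j * a⁻¹) by group, ← conj_pow,
      ← conj_pow, hag, hah, inv_pow] at e2
    have e3 : g ^ i = (g ^ i)⁻¹ := mul_right_cancel (e.trans e2.symm)
    have h1 : g ^ (i + i) = 1 := by rw [pow_add]; exact mul_eq_one_iff_eq_inv.mpr e3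
    have ho : orderOf g = 3 := by
      haveI := Fact.mk Nat.prime_three
      exact orderOf_eq_prime hg3 hg1
    have hoh : orderOf h = 3 := by
      haveI := Fact.mk Nat.prime_three
      exact orderOf_eq_prime hh3 hh1
    have hi0 : i = 0 := by
      have := orderOf_dvd_of_pow_eq_one h1
      rw [ho] at this
      omega
    subst hi0
    rw [pow_zero, one_mul] at e
    have := orderOf_dvd_of_pow_eq_one e
    rw [hoh] at this
    exact ⟨rfl, by omega⟩
  have hTeq : ∀ t ∈ (T : Subgroup G), ∃ i j : ℕ, i < 3 ∧ j < 3 ∧ t = g ^ i * h ^ j := by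
    have hinj : Function.Injective fun p : Fin 3 × Fin 3 =>
        (⟨g ^ (p.1 : ℕ) * h ^ (p.2 : ℕ), hghT _ _⟩ : (T : Subgroup G)) := by
      rintro ⟨i, j⟩ ⟨i', j'⟩ e
      have e' : g ^ (i : ℕ) * h ^ (j : ℕ) = g ^ (i' : ℕ) * h ^ (j' : ℕ) := congrArg Subtype.val e
      have hgh : ∀ m n : ℕ, h ^ n * g ^ m = g ^ m * h ^ n := fun m n =>
        hcomm _ (pow_mem hhT n) _ (pow_mem hgT m)
      have key : g ^ (((i : ℕ) + (3 - (i' : ℕ))) % 3) * h ^ (((j : ℕ) + (3 - (j' : ℕ))) % 3) = 1 := by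
        have hp : ∀ (x : G), x ^ 3 = 1 → ∀ m : ℕ, x ^ (m % 3) = x ^ m := fun x hx m => by
          conv_rhs => rw [← Nat.mod_add_div m 3, pow_add, pow_mul, hx, one_pow, mul_one]
        rw [hp g hg3, hp h hh3, pow_add, pow_add, mul_assoc, ← mul_assoc (g ^ (3 - (i' : ℕ))),
          ← hgh, mul_assoc, ← mul_assoc, ← mul_assoc, e', mul_assoc (g ^ (i' : ℕ)), hgh,
          ← mul_assoc, ← pow_add, show (i' : ℕ) + (3 - (i' : ℕ)) = 3 by omega, hg3, one_mul,
          ← pow_add, show (j' : ℕ) + (3 - (j' : ℕ)) = 3 by omega, hh3]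
      obtain ⟨h1, h2⟩ := hcoord _ _ (Nat.mod_lt _ (by norm_num)) (Nat.mod_lt _ (by norm_num)) key
      exact Prod.ext (Fin.ext (by dsimp only; omega)) (Fin.ext (by dsimp only; omega))
    have hbij := hinj.bijective_of_nat_card_le (by rw [hcard, Nat.card_prod]; simp)
    intro t ht
    obtain ⟨⟨i, j⟩, e⟩ := hbij.2 ⟨t, ht⟩
    exact ⟨i, j, i.2, j.2, (congrArg Subtype.val e).symm⟩
  have hextend : ∀ v ∈ W, v * g * v⁻¹ = g → v * h * v⁻¹ = h → v = 1 := fun v hv e1 e2 =>
    hfaith v hv fun t ht => by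
      obtain ⟨i, j, -, -, rfl⟩ := hTeq t ht
      rw [show v * (g ^ i * h ^ j) * v⁻¹ = (v * g ^ i * v⁻¹) * (v * h ^ j * v⁻¹) by group,
        ← conj_pow, ← conj_pow, e1, e2]
  have hsign : ∀ v ∈ W, (v * g * v⁻¹ = g ∨ v * g * v⁻¹ = g⁻¹) ∧
      (v * h * v⁻¹ = h ∨ v * h * v⁻¹ = h⁻¹) := by
    intro v hv
    constructor
    · obtain ⟨i, j, hi, hj, e⟩ := hTeq _ (hnorm v hv g hgT)
      have h1 : a * (v * g * v⁻¹) * a⁻¹ = (v * g * v⁻¹)⁻¹ := by
        calc a * (v * g * v⁻¹) * a⁻¹ = (a * v) * g * (a * v)⁻¹ := by group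
          _ = v * (a * g * a⁻¹) * v⁻¹ := by rw [hWc a ha v hv]; group
          _ = _ := by rw [hag]; group
      rw [e, show a * (g ^ i * h ^ j) * a⁻¹ = (a * g ^ i * a⁻¹) * (a * h ^ j * a⁻¹) by group,
        ← conj_pow, ← conj_pow, hag, hah, inv_pow, mul_inv_rev,
        hcomm _ (inv_mem (pow_mem hgT i)) _ (pow_mem hhT j)] at h1
      have h2 : h ^ (j + j) = 1 := by
        rw [pow_add]
        exact mul_eq_one_iff_eq_inv.mpr (mul_right_cancel h1)
      have hoh : orderOf h = 3 := by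
        haveI := Fact.mk Nat.prime_three
        exact orderOf_eq_prime hh3 hh1
      have := orderOf_dvd_of_pow_eq_one h2
      rw [hoh] at this
      obtain rfl : j = 0 := by omega
      rw [pow_zero, mul_one] at e
      interval_cases i
      · rw [pow_zero, mul_inv_eq_one] at e
        exact absurd (mul_left_cancel (e.trans (mul_one v).symm)) hg1
      · exact Or.inl (e.trans (pow_one g))
      · exact Or.inr (e.trans (eq_inv_of_mul_eq_one_left (by rw [← pow_succ, hg3])))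
    · obtain ⟨i, j, hi, hj, e⟩ := hTeq _ (hnorm v hv h hhT)
      have h1 : a * (v * h * v⁻¹) * a⁻¹ = v * h * v⁻¹ := by
        calc a * (v * h * v⁻¹) * a⁻¹ = (a * v) * h * (a * v)⁻¹ := by group
          _ = v * (a * h * a⁻¹) * v⁻¹ := by rw [hWc a ha v hv]; group
          _ = _ := by rw [hah]
      rw [e, show a * (g ^ i * h ^ j) * a⁻¹ = (a * g ^ i * a⁻¹) * (a * h ^ j * a⁻¹) by group,
        ← conj_pow, ← conj_pow, hag, hah, inv_pow] at h1
      have h2 : g ^ (i + i) = 1 := by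
        rw [pow_add]
        exact mul_eq_one_iff_eq_inv.mpr (mul_right_cancel h1).symm
      have hog : orderOf g = 3 := by
        haveI := Fact.mk Nat.prime_three
        exact orderOf_eq_prime hg3 hg1
      have := orderOf_dvd_of_pow_eq_one h2
      rw [hog] at this
      obtain rfl : i = 0 := by omega
      rw [pow_zero, one_mul] at e
      interval_cases j
      · rw [pow_zero, mul_inv_eq_one] at e
        exact absurd (mul_left_cancel (e.trans (mul_one v).symm)) hh1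
      · exact Or.inl (e.trans (pow_one h))
      · exact Or.inr (e.trans (eq_inv_of_mul_eq_one_left (by rw [← pow_succ, hh3])))
  -- the second involution
  obtain ⟨b, hb, hbg, hbh⟩ : ∃ b ∈ W, b * g * b⁻¹ = g ∧ b * h * b⁻¹ = h⁻¹ := by
    obtain ⟨v, hv, hv1, hva⟩ : ∃ v ∈ W, v ≠ 1 ∧ v ≠ a := by
      by_cases e : v₁ = a
      · exact ⟨v₂, hv₂, hv₂1, fun e' => hv₂2 (e'.trans e.symm)⟩
      · exact ⟨v₁, hv₁, hv₁1, e⟩
    obtain ⟨s1, s2⟩ := hsign v hv
    have hgi : a * g⁻¹ * a⁻¹ = g := by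
      rw [show a * g⁻¹ * a⁻¹ = (a * g * a⁻¹)⁻¹ by group, hag, inv_inv]
    have hhi : a * h⁻¹ * a⁻¹ = h⁻¹ := by
      rw [show a * h⁻¹ * a⁻¹ = (a * h * a⁻¹)⁻¹ by group, hah]
    have hava : a * v ≠ 1 := fun e => hva (by
      rw [← hWinv a ha, inv_mul_eq_one] at e
      exact e.symm)
    rcases s1 with s1 | s1 <;> rcases s2 with s2 | s2
    · exact absurd (hextend v hv s1 s2) hv1
    · exact ⟨v, hv, s1, s2⟩
    · exact absurd (hextend (a * v) (mul_mem ha hv)
        (by rw [show a * v * g * (a * v)⁻¹ = a * (v * g * v⁻¹) * a⁻¹ by group, s1, hgi])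
        (by rw [show a * v * h * (a * v)⁻¹ = a * (v * h * v⁻¹) * a⁻¹ by group, s2, hah])) hava
    · exact ⟨a * v, mul_mem ha hv,
        by rw [show a * v * g * (a * v)⁻¹ = a * (v * g * v⁻¹) * a⁻¹ by group, s1, hgi],
        by rw [show a * v * h * (a * v)⁻¹ = a * (v * h * v⁻¹) * a⁻¹ by group, s2, hhi]⟩
  -- the homomorphism
  set f₁ := Invol.dihedralHom (n := 3) g a hg3 (hWsq a ha) hag with hf₁
  set f₂ := Invol.dihedralHom (n := 3) h b hh3 (hWsq b hb) hbh with hf₂
  have hr : ∀ (x s : G) (hx : x ^ 3 = 1) (hs : s * s = 1) (hsx : s * x * s⁻¹ = x⁻¹) (i : ZMod 3),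
      Invol.dihedralHom x s hx hs hsx (.r i) = x ^ i.val ∧
      Invol.dihedralHom x s hx hs hsx (.sr i) = s * x ^ i.val := by
    intro x s hx hs hsx i
    constructor
    · conv_lhs => rw [← ZMod.natCast_zmod_val i, ← Int.cast_natCast, Invol.dihedralHom_r, zpow_natCast]
    · conv_lhs => rw [← ZMod.natCast_zmod_val i, ← Int.cast_natCast, Invol.dihedralHom_sr, zpow_natCast]
  have hc : ∀ p q : D, Commute (f₁ p) (f₂ q) := by
    have hag' : Commute g b := (mul_inv_eq_iff_eq_mul.mp hbg).symm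
    have hah' : Commute a h := mul_inv_eq_iff_eq_mul.mp hah
    have hgh : Commute g h := hcomm g hgT h hhT
    have hab : Commute a b := hWc a ha b hb
    rintro (i | i) (j | j)
    · rw [hf₁, hf₂, (hr g a _ _ _ i).1, (hr h b _ _ _ j).1]
      exact hgh.pow_pow _ _
    · rw [hf₁, hf₂, (hr g a _ _ _ i).1, (hr h b _ _ _ j).2]
      exact (hag'.pow_left _).mul_right (hgh.pow_pow _ _)
    · rw [hf₁, hf₂, (hr g a _ _ _ i).2, (hr h b _ _ _ j).1]
      exact (hah'.pow_right _).mul_left (hgh.pow_pow _ _)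
    · rw [hf₁, hf₂, (hr g a _ _ _ i).2, (hr h b _ _ _ j).2]
      exact ((hab.mul_right (hah'.pow_right _))).mul_left ((hag'.pow_left _).mul_right (hgh.pow_pow _ _))
  set φ := MonoidHom.noncommCoprod f₁ f₂ hc with hφ
  have hφapply : ∀ p : D × D, φ p = f₁ p.1 * f₂ p.2 := fun p => rfl
  have hφN : φ.range ≤ N := by
    have hgN := hTN hgT
    have hhN := hTN hhT
    rintro _ ⟨⟨i | i, j | j⟩, rfl⟩ <;> rw [hφapply, hf₁, hf₂]
    · rw [(hr g a _ _ _ i).1, (hr h b _ _ _ j).1]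
      exact mul_mem (pow_mem hgN _) (pow_mem hhN _)
    · rw [(hr g a _ _ _ i).1, (hr h b _ _ _ j).2]
      exact mul_mem (pow_mem hgN _) (mul_mem (hWN hb) (pow_mem hhN _))
    · rw [(hr g a _ _ _ i).2, (hr h b _ _ _ j).1]
      exact mul_mem (mul_mem (hWN ha) (pow_mem hgN _)) (pow_mem hhN _)
    · rw [(hr g a _ _ _ i).2, (hr h b _ _ _ j).2]
      exact mul_mem (mul_mem (hWN ha) (pow_mem hgN _)) (mul_mem (hWN hb) (pow_mem hhN _))
  have hTrot : ∀ t ∈ (T : Subgroup G), ∃ i j : ZMod 3, φ (.r i, .r j) = t := by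
    intro t ht
    obtain ⟨i, j, hi, hj, rfl⟩ := hTeq t ht
    refine ⟨i, j, ?_⟩
    rw [hφapply, hf₁, hf₂, (hr g a _ _ _ _).1, (hr h b _ _ _ _).1, ZMod.val_natCast, ZMod.val_natCast,
      Nat.mod_eq_of_lt hi, Nat.mod_eq_of_lt hj]
  have hinj : Function.Injective φ := by
    rw [injective_iff_map_eq_one]
    rintro ⟨p, q⟩ e
    have h1 := hφapply (p, q)
    rw [e] at h1
    rcases p with i | i <;> rcases q with j | j <;> rw [hf₁, hf₂] at h1
    · rw [(hr g a _ _ _ i).1, (hr h b _ _ _ j).1] at h1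
      obtain ⟨h2, h4⟩ := hcoord _ _ (ZMod.val_lt i) (ZMod.val_lt j) h1.symm
      rw [(ZMod.val_eq_zero i).mp h2, (ZMod.val_eq_zero j).mp h4]
      rfl
    · exfalso
      rw [(hr g a _ _ _ i).1, (hr h b _ _ _ j).2] at h1
      have hb' : b ∈ (T : Subgroup G) := by
        have e' : b = (g ^ i.val)⁻¹ * (h ^ j.val)⁻¹ := by
          have h5 : g ^ i.val * (b * h ^ j.val) = 1 := h1.symm
          rw [← mul_eq_one_iff_eq_inv.mp (mul_eq_one_comm.mp h5)]
          group
        rw [e']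
        exact mul_mem (inv_mem (pow_mem hgT _)) (inv_mem (pow_mem hhT _))
      have := hWT b hb hb'
      rw [this, one_mul, inv_one, mul_one] at hbh
      exact hh1 (by
        have h2 : h * h = 1 := mul_eq_one_iff_eq_inv.mpr hbh
        have : h ^ 3 = h := by rw [pow_succ, pow_two, h2, one_mul]
        exact this.symm.trans hh3)
    · exfalso
      rw [(hr g a _ _ _ i).2, (hr h b _ _ _ j).1] at h1
      have ha' : a ∈ (T : Subgroup G) := by
        have h5 : a * (g ^ i.val * h ^ j.val) = 1 := by rw [← mul_assoc]; exact h1.symm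
        rw [mul_eq_one_iff_eq_inv.mp h5]
        exact inv_mem (hghT _ _)
      exact ha1 (hWT a ha ha')
    · exfalso
      rw [(hr g a _ _ _ i).2, (hr h b _ _ _ j).2] at h1
      have hb2 : (g ^ i.val) * b = b * g ^ i.val :=
        Commute.pow_left (a := g) (b := b) (mul_inv_eq_iff_eq_mul.mp hbg).symm _
      have hab' : a * b ∈ (T : Subgroup G) := by
        have h5 : a * b * (g ^ i.val * h ^ j.val) = 1 := by
          rw [h1]
          calc a * b * (g ^ i.val * h ^ j.val) = a * (b * g ^ i.val) * h ^ j.val := by group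
            _ = _ := by rw [← hb2]; group
        rw [mul_eq_one_iff_eq_inv.mp h5]
        exact inv_mem (hghT _ _)
      have e' := hWT _ (mul_mem ha hb) hab'
      rw [← hWinv a ha, inv_mul_eq_one] at e'
      rw [← e', hag] at hbg
      exact hgne hbg.symm
  refine ⟨⟨φ, hinj, Subgroup.eq_of_le_of_card_ge hφN ?_, fun p => ?_⟩⟩
  · rw [hN, Nat.card_congr (MonoidHom.ofInjective hinj).toEquiv.symm, Nat.card_prod, DihedralGroup.nat_card]
  · constructor
    · intro hp
      have := h3 _ hp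
      rw [← map_pow] at this
      exact hinj (this.trans (map_one φ).symm)
    · intro hp
      have key : ∀ p : D × D, p ^ 3 = 1 → ∃ i j, p = (.r i, .r j) := by decide
      obtain ⟨i, j, rfl⟩ := key p hp
      rw [hφapply, hf₁, hf₂, (hr g a _ _ _ i).1, (hr h b _ _ _ j).1]
      exact hghT _ _

end Cfsg.Agent.Fus.NineFour
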