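import Mathlib
import Cfsg.Agent.Lib.Char.Constituent
import Cfsg.Agent.Lib.Char.Induce
import Cfsg.Agent.Lib.Block.ClassMul
import Cfsg.Agent.Lib.Block.Central

/-!
A generalized character of norm three containing the trivial character, vanishing at one, at `a`
and at all products of `a` with its conjugates, puts `a` in the kernel of a nontrivial irreducible
character.
-/

set_option autoImplicit false
set_option linter.style.haveILetI false
set_option linter.unusedSectionVars false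

namespace Cfsg.Agent.Fus

open Cfsg Cfsg.Agent.Char Cfsg.Agent.Block
open scoped ComplexConjugate

universe u

variable {G : Type u} [Group G] [Fintype G]

theorem exists_normal_of_norm_three {Ψ : G → ℂ} (hgen : IsGeneralizedCharacter G Ψ)
    (hnorm : classInner Ψ Ψ = 3) (htriv : classInner Ψ (fun _ => (1 : ℂ)) = 1) (h1 : Ψ 1 = 0)
    {a : G} (ha : Ψ a = 0) (hprod : ∀ g : G, Ψ (a * (g * a * g⁻¹)) = 0) :
    ∃ K : Subgroup G, K.Normal ∧ a ∈ K ∧ K ≠ ⊤ := by
  classical
  obtain ⟨c, hc, hΨ⟩ := IsGenChar.exists_decomp hgen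
  have h0 : c (trivialIrr G) = 1 := by
    have h := hc (trivialIrr G)
    rw [show ((trivialIrr G : IrrCharacter G) : G → ℂ) = fun _ => (1 : ℂ) from rfl, htriv] at h
    exact_mod_cast h.symm
  have hs : ∑ φ : IrrCharacter G, c φ ^ 2 = 3 := by
    rw [hΨ, IsGenChar.classInner_self_int] at hnorm
    exact_mod_cast hnorm
  rw [← Finset.add_sum_erase _ _ (Finset.mem_univ (trivialIrr G)), h0] at hs
  set S := Finset.univ.erase (trivialIrr G) with hS
  have hle : ∀ φ ∈ S, c φ = 0 ∨ c φ = 1 ∨ c φ = -1 := by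
    intro φ hφ
    have := Finset.single_le_sum (f := fun x => c x ^ 2) (fun x _ => sq_nonneg _) hφ
    have h5 : -1 ≤ c φ ∧ c φ ≤ 1 := ⟨by nlinarith, by nlinarith⟩
    omega
  have hcard : (S.filter fun φ => c φ ≠ 0).card = 2 := by
    have h2 : ∑ φ ∈ S, c φ ^ 2 = ∑ φ ∈ S, (if c φ ≠ 0 then (1 : ℤ) else 0) :=
      Finset.sum_congr rfl fun φ hφ => by rcases hle φ hφ with e | e | e <;> simp [e]
    rw [h2, Finset.sum_boole] at hs
    have : (((S.filter fun φ => c φ ≠ 0).card : ℕ) : ℤ) = 2 := by linarith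
    exact_mod_cast this
  obtain ⟨P, Q, hPQ, hPQe⟩ := Finset.card_eq_two.mp hcard
  have hP : P ∈ S ∧ c P ≠ 0 := Finset.mem_filter.mp (hPQe ▸ Finset.mem_insert_self P {Q})
  have hQ : Q ∈ S ∧ c Q ≠ 0 :=
    Finset.mem_filter.mp (hPQe ▸ Finset.mem_insert_of_mem (Finset.mem_singleton_self Q))
  have hsum : ∀ f : IrrCharacter G → ℂ, ∑ φ : IrrCharacter G, (c φ : ℂ) * f φ =
      f (trivialIrr G) + ((c P : ℂ) * f P + (c Q : ℂ) * f Q) := by
    intro f
    rw [← Finset.add_sum_erase _ _ (Finset.mem_univ (trivialIrr G)), h0, Int.cast_one, one_mul, ← hS,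
      ← Finset.sum_subset (Finset.filter_subset (fun φ => c φ ≠ 0) S) fun φ hφ hn => by
        simp only [Finset.mem_filter, hφ, true_and, not_not] at hn
        rw [hn, Int.cast_zero, zero_mul], hPQe, Finset.sum_pair hPQ]
  have hval : ∀ x : G, Ψ x = 1 + ((c P : ℂ) * (P : G → ℂ) x + (c Q : ℂ) * (Q : G → ℂ) x) := by
    intro x
    have h := congrFun hΨ x
    rw [Finset.sum_apply, Finset.sum_congr rfl fun φ _ =>
      show ((c φ : ℂ) • (φ : G → ℂ)) x = (c φ : ℂ) * (φ : G → ℂ) x from rfl, hsum] at h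
    exact h
  have e2 := Block.sum_classFun_mul_conj (IsGenChar.classFun hgen) a a
  rw [Finset.sum_eq_zero fun g _ => hprod g, mul_zero,
    Finset.sum_congr rfl (g := fun χ : IrrCharacter G => (c χ : ℂ) *
      ((χ : G → ℂ) a * (χ : G → ℂ) a / (χ : G → ℂ) 1)) fun χ _ => by rw [hc]; ring, hsum,
    show ((trivialIrr G : IrrCharacter G) : G → ℂ) a = 1 from rfl,
    show ((trivialIrr G : IrrCharacter G) : G → ℂ) 1 = 1 from rfl] at e2
  have e0 := (hval 1).symm.trans h1
  have e1 := (hval a).symm.trans ha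
  set dP := (P : G → ℂ) 1
  set dQ := (Q : G → ℂ) 1
  set mP := (P : G → ℂ) a
  set mQ := (Q : G → ℂ) a
  have hdP : dP ≠ 0 := IsIrr.one_ne_zero P.2
  have hdQ : dQ ≠ 0 := IsIrr.one_ne_zero Q.2
  have hcP : (c P : ℂ) ≠ 0 := Int.cast_ne_zero.mpr hP.2
  field_simp at e2
  have hsq : ((c P : ℂ) * dP - (c P : ℂ) * mP) ^ 2 = 0 := by
    linear_combination (c P : ℂ) * (c Q : ℂ) * e2
      + ((c P : ℂ) * (c P : ℂ) * mP ^ 2 + (c P : ℂ) * dP) * e0
      + (c P : ℂ) * dP * ((c Q : ℂ) * mQ - 1 - (c P : ℂ) * mP) * e1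
  have hPeq : mP = dP := by
    have := pow_eq_zero_iff two_ne_zero |>.mp hsq
    have h2 : (c P : ℂ) * (dP - mP) = 0 := by linear_combination this
    exact (sub_eq_zero.mp ((mul_eq_zero.mp h2).resolve_left hcP)).symm
  refine ⟨charKer (IsIrr.isCharacter P.2), charKer_normal _, (mem_charKer _).mpr hPeq, fun e => ?_⟩
  refine (Finset.mem_erase.mp hP.1).1 (Subtype.ext (irr_const_eq_one P.2 fun g => ?_))
  exact (mem_charKer (IsIrr.isCharacter P.2)).mp (e ▸ Subgroup.mem_top g)

/-- The induced character of `1 - l` for a linear character `l` of order three that is inverted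
by `b`, on a subgroup whose relevant elements are fused only in `M ∪ bM`. -/
theorem exists_normal_of_linear (M : Subgroup G) (l : M →* ℂˣ) (hl : l ≠ 1)
    (hl3 : ∀ m : M, l m ^ 3 = 1) {b : G} (hb : b ∉ M) (hbM : ∀ m : M, b⁻¹ * (m : G) * b ∈ M)
    (hbl : ∀ m : M, l ⟨_, hbM m⟩ = (l m)⁻¹)
    (hTI : ∀ (x : G) (m : M), l m ≠ 1 → ∀ h : x⁻¹ * (m : G) * x ∈ M, l ⟨_, h⟩ ≠ 1 →
      x ∈ M ∨ b⁻¹ * x ∈ M)
    {a : G} (ha : ∀ (x : G) (h : x⁻¹ * a * x ∈ M), l ⟨_, h⟩ = 1)
    (hprod : ∀ (g x : G) (h : x⁻¹ * (a * (g * a * g⁻¹)) * x ∈ M), l ⟨_, h⟩ = 1) :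
    ∃ K : Subgroup G, K.Normal ∧ a ∈ K ∧ K ≠ ⊤ := by
  classical
  set φ : M → ℂ := (fun _ : M => (1 : ℂ)) - fun m => (l m : ℂ) with hφ
  have hφ0 : ∀ m, l m = 1 → φ m = 0 := fun m e => by simp [hφ, e]
  have hgen : IsGeneralizedCharacter G (indFun M φ) :=
    IsGenChar.ind M (IsGenChar.sub (IsGenChar.of_isCharacter IsChar.one)
      (IsGenChar.of_isCharacter (IsIrr.isCharacter (isIrr_linear l))))
  have hzero : ∀ y : G, (∀ (x : G) (h : x⁻¹ * y * x ∈ M), l ⟨_, h⟩ = 1) → indFun M φ y = 0 :=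
    fun y hy => indFun_eq_zero_of_not_conj M φ fun x hx => hφ0 _ (hy x hx)
  have hM : (Nat.card M : ℂ) ≠ 0 := Nat.cast_ne_zero.mpr Nat.card_pos.ne'
  have hvalue : ∀ m : M, l m ≠ 1 → indFun M φ m = 3 := by
    intro m hm
    set w : ℂ := (l m : ℂ) with hwdef
    have hw3 : w ^ 3 = 1 := by rw [hwdef, ← Units.val_pow_eq_pow_val, hl3, Units.val_one]
    have hw1 : w ≠ 1 := fun e => hm (Units.ext e)
    have hw0 : w ≠ 0 := (l m).ne_zero
    have hq : w ^ 2 + w + 1 = 0 := by
      have h2 : (w - 1) * (w ^ 2 + w + 1) = 0 := by linear_combination hw3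
      exact (mul_eq_zero.mp h2).resolve_left (sub_ne_zero.mpr hw1)
    have hterm : ∀ x : G, extendByZero M φ (x⁻¹ * m * x) =
        (if x ∈ M then 1 - w else 0) + (if b⁻¹ * x ∈ M then 1 - w⁻¹ else 0) := by
      intro x
      have hex : x ∈ M → b⁻¹ * x ∉ M := fun h h' => hb (by
        have h4 := mul_mem h (inv_mem h')
        rwa [mul_inv_rev, inv_inv, ← mul_assoc, mul_inv_cancel, one_mul] at h4)
      by_cases hx : x ∈ M
      · rw [if_pos hx, if_neg (hex hx), add_zero]
        have he : x⁻¹ * (m : G) * x ∈ M := mul_mem (mul_mem (inv_mem hx) m.2) hx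
        rw [extendByZero_of_mem φ he]
        have e : l ⟨_, he⟩ = l m := by
          rw [show (⟨_, he⟩ : M) = ⟨x, hx⟩⁻¹ * m * ⟨x, hx⟩ from rfl, map_mul, map_mul, map_inv,
            mul_right_comm, inv_mul_cancel, one_mul]
        simp [hφ, e, hwdef]
      · by_cases hx' : b⁻¹ * x ∈ M
        · rw [if_neg hx, if_pos hx', zero_add]
          have e' : x⁻¹ * (m : G) * x = (b⁻¹ * x)⁻¹ * (b⁻¹ * (m : G) * b) * (b⁻¹ * x) := by group
          have he : x⁻¹ * (m : G) * x ∈ M := by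
            rw [e']; exact mul_mem (mul_mem (inv_mem hx') (hbM m)) hx'
          rw [extendByZero_of_mem φ he]
          have e : l ⟨_, he⟩ = (l m)⁻¹ := by
            rw [show (⟨_, he⟩ : M) = ⟨_, hx'⟩⁻¹ * ⟨_, hbM m⟩ * ⟨_, hx'⟩ from Subtype.ext e', map_mul,
              map_mul, map_inv, mul_right_comm, inv_mul_cancel, one_mul, hbl]
          simp [hφ, e, hwdef]
        · rw [if_neg hx, if_neg hx', add_zero]
          by_cases he : x⁻¹ * (m : G) * x ∈ M
          · rw [extendByZero_of_mem φ he]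
            refine hφ0 _ (by_contra fun hne => ?_)
            exact (hTI x m hm he hne).elim hx hx'
          · exact extendByZero_not_mem φ he
    have hc1 : (Finset.univ.filter fun x : G => x ∈ M).card = Nat.card M := by
      rw [Nat.card_eq_fintype_card, Fintype.card_subtype]
    have hc2 : (Finset.univ.filter fun x : G => b⁻¹ * x ∈ M).card = Nat.card M := by
      rw [← hc1]
      exact Finset.card_equiv (Equiv.mulLeft b⁻¹) fun x => by simp
    show (Nat.card M : ℂ)⁻¹ * ∑ x : G, extendByZero M φ (x⁻¹ * m * x) = 3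
    rw [Finset.sum_congr rfl fun x _ => hterm x, Finset.sum_add_distrib, ← Finset.sum_filter,
      ← Finset.sum_filter, Finset.sum_const, Finset.sum_const, hc1, hc2, nsmul_eq_mul, nsmul_eq_mul,
      ← mul_add, ← mul_assoc, inv_mul_cancel₀ hM, one_mul]
    have hi : w⁻¹ = w ^ 2 := inv_eq_of_mul_eq_one_right (by linear_combination hw3)
    rw [hi]
    linear_combination -hq
  have hφsum : classInner φ (fun _ : M => (1 : ℂ)) = 1 := by
    simp only [classInner, hφ, map_one, mul_one, Pi.sub_apply, Finset.sum_sub_distrib,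
      Char.linear_sum l hl, sub_zero, Finset.sum_const, Finset.card_univ, nsmul_eq_mul,
      ← Nat.card_eq_fintype_card]
    exact inv_mul_cancel₀ hM
  refine exists_normal_of_norm_three hgen ?_ ?_ ?_ (hzero a ha)
    fun g => hzero _ fun x h => hprod g x h
  · rw [classInner_indFun M φ (indFun_classFun M φ)]
    have e : classInner φ (fun h : M => indFun M φ h) = 3 * classInner φ (fun _ : M => (1 : ℂ)) := by
      simp only [classInner, map_one, mul_one]
      rw [← mul_assoc, mul_comm (3 : ℂ), mul_assoc, Finset.mul_sum _ _ (3 : ℂ)]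
      congr 1
      refine Finset.sum_congr rfl fun m _ => ?_
      by_cases hm : l m = 1
      · rw [hφ0 m hm, zero_mul, mul_zero]
      · rw [hvalue m hm, map_ofNat, mul_comm]
    rw [e, hφsum, mul_one]
  · rw [classInner_indFun M φ (IsIrr.classFun isIrr_one), hφsum]
  · rw [indFun_one_eq, hφ0 1 (map_one l), mul_zero]

end Cfsg.Agent.Fus
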