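import Mathlib
import Cfsg.Agent.Lib.Fus.NineFour.Setup
import Cfsg.Agent.Lib.Fus.NineFour.KernelTrick
import Cfsg.Agent.Lib.Fus.SelfCentThree.Main
import Cfsg.Agent.Lib.Grp.CoprimeAbelian
import Cfsg.Agent.Lib.Grp.Cores
import Cfsg.Agent.Lib.Classical.DicksonSmallQ

/-!
A self-centralizing Sylow 3-subgroup of order nine with four-group automizer containing all
centralizers of its nontrivial elements is normal.
-/

set_option autoImplicit false
set_option linter.style.haveILetI false
set_option linter.unusedSectionVars false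
set_option linter.unusedVariables false
set_option maxRecDepth 10000

namespace Cfsg.Agent.Fus.NineFour

open Subgroup DihedralGroup
open scoped commutatorElement

universe u


variable {G : Type u} [Group G] [Finite G] {T : Sylow 3 G} (M : Model G T)

theorem mem_N_iff {x : G} :
    x ∈ normalizer ((T : Subgroup G) : Set G) ↔ ∃ p, M.φ p = x := by
  rw [← M.range]; exact Iff.rfl

include M in
theorem mem_T_of_cube {y : G} (hy : y ∈ normalizer ((T : Subgroup G) : Set G)) (h3 : y ^ 3 = 1) :
    y ∈ (T : Subgroup G) := by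
  obtain ⟨p, rfl⟩ := (mem_N_iff M).mp hy
  exact (M.mem p).mpr (M.inj (by rw [map_pow, h3, map_one]))

include M in
theorem mem_N_of_conj (hel : ∀ t ∈ (T : Subgroup G), t ^ 3 = 1)
    (hcomm : ∀ s ∈ (T : Subgroup G), ∀ t ∈ (T : Subgroup G), s * t = t * s)
    (hloc : ∀ t ∈ (T : Subgroup G), t ≠ 1 → centralizer {t} ≤ normalizer ((T : Subgroup G) : Set G))
    {x t : G} (ht : t ∈ (T : Subgroup G)) (ht1 : t ≠ 1) (hx : x * t * x⁻¹ ∈ (T : Subgroup G)) :
    x ∈ normalizer ((T : Subgroup G) : Set G) := by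
  have h1 : x * t * x⁻¹ ≠ 1 := fun e => ht1 (conj_eq_one_iff.mp e)
  have hmap : (T : Subgroup G).map (MulAut.conj x).toMonoidHom ≤ T := by
    rintro _ ⟨s, hs, rfl⟩
    show x * s * x⁻¹ ∈ (T : Subgroup G)
    refine mem_T_of_cube M (hloc _ hx h1 (Subgroup.mem_centralizer_singleton_iff.mpr ?_)) ?_
    · rw [show x * s * x⁻¹ * (x * t * x⁻¹) = x * (s * t) * x⁻¹ by group, hcomm s hs t ht]
      group
    · rw [conj_pow, hel s hs, mul_one, mul_inv_cancel]
  have heq : (T : Subgroup G).map (MulAut.conj x).toMonoidHom = T :=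
    Subgroup.eq_of_le_of_card_ge hmap
      (le_of_eq (Subgroup.card_map_of_injective (MulAut.conj x).injective).symm)
  refine Subgroup.mem_normalizer_iff.mpr fun s => ⟨fun hs => hmap ⟨s, hs, rfl⟩, fun hs => ?_⟩
  rw [← heq] at hs
  obtain ⟨u, hu, he⟩ := hs
  rwa [(MulAut.conj x).injective he] at hu

/-- Rotations of a dihedral group. -/
def rot : Multiplicative (ZMod 3) →* D where
  toFun i := r i.toAdd
  map_one' := rfl
  map_mul' i j := (r_mul_r _ _).symm

/-- The subgroup of index two of the normalizer and its parametrization. -/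
def psi : D × Multiplicative (ZMod 3) →* G :=
  M.φ.comp ((MonoidHom.id D).prodMap rot)

theorem psi_apply (q : D × Multiplicative (ZMod 3)) : psi M q = M.φ (q.1, r q.2.toAdd) := rfl

theorem psi_injective : Function.Injective (psi M) := fun p q e => by
  have h := M.inj e
  rw [MonoidHom.prodMap, Prod.ext_iff] at h
  obtain ⟨h1, h2⟩ := h
  exact Prod.ext h1 (by
    have h3 : r p.2.toAdd = r q.2.toAdd := h2
    exact Multiplicative.toAdd.injective (r.inj h3))

theorem exists_normal_a (hel : ∀ t ∈ (T : Subgroup G), t ^ 3 = 1)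
    (hcomm : ∀ s ∈ (T : Subgroup G), ∀ t ∈ (T : Subgroup G), s * t = t * s)
    (hloc : ∀ t ∈ (T : Subgroup G), t ≠ 1 → centralizer {t} ≤ normalizer ((T : Subgroup G) : Set G))
    (hab : ¬ IsConj (M.φ (sr 0, 1)) (M.φ (1, sr 0)))
    (haz : ¬ IsConj (M.φ (sr 0, 1)) (M.φ (sr 0, sr 0))) :
    ∃ K : Subgroup G, K.Normal ∧ M.φ (sr 0, 1) ∈ K ∧ K ≠ ⊤ := by
  classical
  letI := Fintype.ofFinite G
  set a := M.φ (sr 0, 1) with hadef
  obtain ⟨w, hw3, hw1⟩ : ∃ w : ℂˣ, w ^ 3 = 1 ∧ w ≠ 1 := by
    have h := Complex.isPrimitiveRoot_exp 3 (by norm_num)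
    refine ⟨Units.mk0 _ (h.ne_zero (by norm_num)), Units.ext (by simpa using h.pow_eq_one),
      fun e => h.ne_one (by norm_num) (by simpa using congrArg Units.val e)⟩
  set χ : Multiplicative (ZMod 3) →* ℂˣ :=
    AddMonoidHom.toMultiplicativeLeft (Invol.zmodPow w hw3) with hχdef
  have hχ1 : χ (Multiplicative.ofAdd 1) = w := by
    show Additive.toMul (Invol.zmodPow w hw3 (((1 : ℤ) : ZMod 3))) = w
    rw [Invol.zmodPow_intCast, zpow_one]
  have hχ : ∀ i, χ i = 1 → i = 1 := by
    have key : ∀ i : Multiplicative (ZMod 3),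
        i = 1 ∨ i = Multiplicative.ofAdd 1 ∨ i * Multiplicative.ofAdd 1 = 1 := by decide
    intro i hi
    rcases key i with e | e | e
    · exact e
    · exact absurd (by rw [← hχ1, ← e]; exact hi) hw1
    · exact absurd (by
        have := congrArg χ e
        rwa [map_mul, hi, one_mul, hχ1, map_one] at this) hw1
  set S := (psi M).range with hS
  set e := MonoidHom.ofInjective (psi_injective M)
  set l : S →* ℂˣ := χ.comp ((MonoidHom.snd _ _).comp e.symm.toMonoidHom) with hldef
  have hl : ∀ q, ∀ hq : psi M q ∈ S, l ⟨psi M q, hq⟩ = χ q.2 := fun q hq => by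
    rw [hldef, show (⟨psi M q, hq⟩ : S) = e q from Subtype.ext rfl]
    simp
  have hq_of : ∀ m : S, ∃ q, psi M q = m ∧ l m = χ q.2 := by
    rintro ⟨_, q, rfl⟩
    exact ⟨q, rfl, hl q _⟩
  have hinvol : ∀ u : G, IsConj a u → u ∈ normalizer ((T : Subgroup G) : Set G) →
      ∃ d, u = M.φ (d, 1) := by
    intro u hu huN
    obtain ⟨p, rfl⟩ := (mem_N_iff M).mp huN
    obtain ⟨c, hc⟩ := _root_.isConj_iff.mp hu
    have hp : p * p = 1 := M.inj (by
      rw [map_mul, map_one, ← hc, show c * a * c⁻¹ * (c * a * c⁻¹) = c * (a * a) * c⁻¹ by group, hadef,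
        ← map_mul, show ((sr 0, 1) * (sr 0, 1) : D × D) = 1 by decide, map_one, mul_one, mul_inv_cancel])
    have key : ∀ p : D × D, p * p = 1 → p.2 ≠ 1 →
        ∃ q : D × D, q * p * q⁻¹ = (1, sr 0) ∨ q * p * q⁻¹ = (sr 0, sr 0) := by decide
    by_cases h2 : p.2 = 1
    · exact ⟨p.1, by rw [show p = (p.1, 1) from Prod.ext rfl h2]⟩
    · exfalso
      obtain ⟨q, hq⟩ := key p hp h2
      have hconj : IsConj (M.φ p) (M.φ (q * p * q⁻¹)) :=
        _root_.isConj_iff.mpr ⟨M.φ q, by rw [map_mul, map_mul, map_inv]⟩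
      rcases hq with e | e <;> rw [e] at hconj
      · exact hab (hu.trans hconj)
      · exact haz (hu.trans hconj)
  have hfour : ∀ p : D × D, (∃ j, p.2 = r j) → p.2 ≠ 1 → (p ^ 4) ^ 3 = 1 ∧ p ^ 4 ≠ 1 := by decide
  have hT4 : ∀ q : D × Multiplicative (ZMod 3), χ q.2 ≠ 1 →
      psi M q ^ 4 ∈ (T : Subgroup G) ∧ psi M q ^ 4 ≠ 1 := by
    intro q hq
    obtain ⟨h1, h2⟩ := hfour (q.1, r q.2.toAdd) ⟨_, rfl⟩ fun e => hq (by
      rw [show q.2 = 1 from Multiplicative.toAdd.injective (r.inj (e.trans one_def)), map_one])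
    rw [psi_apply, ← map_pow]
    exact ⟨(M.mem _).mpr h1, fun e => h2 (M.inj (e.trans (map_one _).symm))⟩
  refine exists_normal_of_linear S l (fun h => ?_) (fun m => ?_) (b := M.φ (1, sr 0)) ?_ ?_ ?_ ?_ ?_ ?_
  · have := DFunLike.congr_fun h ⟨psi M (1, Multiplicative.ofAdd 1), ⟨_, rfl⟩⟩
    exact hw1 (hχ1.symm.trans ((hl _ ⟨_, rfl⟩).symm.trans this))
  · obtain ⟨q, -, e⟩ := hq_of m
    have key : ∀ i : Multiplicative (ZMod 3), i ^ 3 = 1 := by decide
    rw [e, ← map_pow, key, map_one]
  · rintro ⟨q, hq⟩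
    have key : ∀ q : D × Multiplicative (ZMod 3), ((q.1, r q.2.toAdd) : D × D) ≠ (1, sr 0) := by decide
    exact key q (M.inj hq)
  · intro m
    obtain ⟨q, hq, -⟩ := hq_of m
    refine ⟨(q.1, q.2⁻¹), ?_⟩
    have key : ∀ q : D × Multiplicative (ZMod 3), ((q.1, r q.2⁻¹.toAdd) : D × D) =
      (1, sr 0)⁻¹ * (q.1, r q.2.toAdd) * (1, sr 0) := by decide
    rw [psi_apply, key q, map_mul, map_mul, map_inv, ← psi_apply, hq]
  · intro m
    obtain ⟨q, hq, e⟩ := hq_of m
    have key : ∀ q : D × Multiplicative (ZMod 3), ((q.1, r q.2⁻¹.toAdd) : D × D) =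
      (1, sr 0)⁻¹ * (q.1, r q.2.toAdd) * (1, sr 0) := by decide
    have hmem : psi M (q.1, q.2⁻¹) ∈ S := ⟨_, rfl⟩
    have := hl (q.1, q.2⁻¹) hmem
    rw [map_inv] at this
    refine Eq.trans (congrArg l (Subtype.ext ?_)) (this.trans (congrArg (·⁻¹) e.symm))
    show (M.φ (1, sr 0))⁻¹ * (m : G) * M.φ (1, sr 0) = psi M (q.1, q.2⁻¹)
    rw [psi_apply, key q, map_mul, map_mul, map_inv, ← psi_apply, hq]
  · intro x m hm h hne
    obtain ⟨q, hq, e⟩ := hq_of m
    obtain ⟨q', hq', e'⟩ := hq_of ⟨_, h⟩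
    rw [e] at hm
    rw [e'] at hne
    obtain ⟨h1, h2⟩ := hT4 q hm
    obtain ⟨h1', -⟩ := hT4 q' hne
    have hxN := mem_N_of_conj M hel hcomm hloc (x := x⁻¹) h1 h2 (by
      rw [show x⁻¹ * psi M q ^ 4 * x⁻¹⁻¹ = (x⁻¹ * psi M q * x⁻¹⁻¹) ^ 4 by rw [conj_pow], inv_inv, hq]
      have : psi M q' = x⁻¹ * (m : G) * x := hq'
      rw [← this]
      exact h1')
    rw [inv_mem_iff] at hxN
    obtain ⟨p, rfl⟩ := (mem_N_iff M).mp hxN
    have key : ∀ p : D × D, (∃ i : Multiplicative (ZMod 3), (p.1, r i.toAdd) = p) ∨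
        ∃ i : Multiplicative (ZMod 3), (p.1, r i.toAdd) = (1, sr 0)⁻¹ * p := by decide
    rcases key p with ⟨i, hi⟩ | ⟨i, hi⟩
    · exact Or.inl ⟨(p.1, i), by rw [psi_apply, hi]⟩
    · exact Or.inr ⟨(p.1, i), by rw [psi_apply, hi, map_mul, map_inv]⟩
  · intro x h
    obtain ⟨q, hq, e⟩ := hq_of ⟨_, h⟩
    rw [e]
    by_contra hne
    obtain ⟨-, h2⟩ := hT4 q hne
    apply h2
    have : psi M q = x⁻¹ * a * x := hq
    rw [this, show x⁻¹ * a * x = x⁻¹ * a * x⁻¹⁻¹ by rw [inv_inv], conj_pow, hadef, ← map_pow,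
      show ((sr 0, 1) : D × D) ^ 4 = 1 by decide, map_one, mul_one, mul_inv_cancel]
  · intro c x h
    obtain ⟨q, hq, e⟩ := hq_of ⟨_, h⟩
    rw [e]
    by_contra hne
    obtain ⟨h1, h2⟩ := hT4 q hne
    have haa : a * a = 1 := by
      rw [hadef, ← map_mul, show ((sr 0, 1) * (sr 0, 1) : D × D) = 1 by decide, map_one]
    set u := x⁻¹ * a * x with hu
    set v := x⁻¹ * (c * a * c⁻¹) * x with hv
    have hy : psi M q = u * v := by
      have : psi M q = x⁻¹ * (a * (c * a * c⁻¹)) * x := hq
      rw [this, hu, hv]; group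
    have huu : u * u = 1 := by
      rw [hu, show x⁻¹ * a * x * (x⁻¹ * a * x) = x⁻¹ * (a * a) * x by group, haa]; group
    have hvv : v * v = 1 := by
      rw [hv, show x⁻¹ * (c * a * c⁻¹) * x * (x⁻¹ * (c * a * c⁻¹) * x) = x⁻¹ * (c * (a * a) * c⁻¹) * x by group,
        haa]; group
    have hinv : u * psi M q ^ 4 * u⁻¹ = (psi M q ^ 4)⁻¹ := by
      rw [← conj_pow, ← inv_pow]
      congr 1
      have hui : u⁻¹ = u := inv_eq_of_mul_eq_one_right huu
      have hvi : v⁻¹ = v := inv_eq_of_mul_eq_one_right hvv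
      rw [hy, hui, mul_inv_rev, hvi, hui]
      calc u * (u * v) * u = (u * u) * v * u := by group
        _ = v * u := by rw [huu, one_mul]
    have huN := mem_N_of_conj M hel hcomm hloc h1 h2 (hinv ▸ inv_mem h1)
    obtain ⟨du, hdu⟩ := hinvol u (_root_.isConj_iff.mpr ⟨x⁻¹, by rw [hu, inv_inv]⟩) huN
    have hvN : v ∈ normalizer ((T : Subgroup G) : Set G) := by
      have hqN : psi M q ∈ normalizer ((T : Subgroup G) : Set G) := (mem_N_iff M).mpr ⟨_, rfl⟩
      have : v = u * psi M q := by rw [hy, ← mul_assoc, huu, one_mul]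
      rw [this]
      exact mul_mem huN hqN
    obtain ⟨dv, hdv⟩ := hinvol v
      (_root_.isConj_iff.mpr ⟨x⁻¹ * c, by rw [hv]; group⟩) hvN
    rw [hdu, hdv, ← map_mul, psi_apply] at hy
    have h3 : r q.2.toAdd = (1 : D) := by simpa using congrArg Prod.snd (M.inj hy)
    refine hne ?_
    rw [show q.2 = 1 from Multiplicative.toAdd.injective (r.inj (h3.trans one_def)), map_one]

theorem not_conj_ab (hel : ∀ t ∈ (T : Subgroup G), t ^ 3 = 1)
    (hcomm : ∀ s ∈ (T : Subgroup G), ∀ t ∈ (T : Subgroup G), s * t = t * s)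
    (hloc : ∀ t ∈ (T : Subgroup G), t ≠ 1 → centralizer {t} ≤ normalizer ((T : Subgroup G) : Set G)) :
    ¬ IsConj (M.φ (sr 0, 1)) (M.φ (1, sr 0)) := by
  classical
  intro hc
  obtain ⟨x, hx⟩ := _root_.isConj_iff.mp hc
  set b := M.φ (1, sr 0) with hbdef
  set C := centralizer ({b} : Set G) with hC
  set g := M.φ (r 1, 1) with hgdef
  set h := M.φ (1, r 1) with hhdef
  have hg3 : g ^ 3 = 1 := by
    rw [hgdef, ← map_pow, show ((r 1, 1) : D × D) ^ 3 = 1 by decide, map_one]
  have hgC : g ∈ C := by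
    rw [hC, Subgroup.mem_centralizer_singleton_iff, hgdef, hbdef, ← map_mul, ← map_mul]
    exact congrArg M.φ (by decide)
  have hwC : x * h * x⁻¹ ∈ C := by
    rw [hC, Subgroup.mem_centralizer_singleton_iff, ← hx,
      show x * h * x⁻¹ * (x * M.φ (sr 0, 1) * x⁻¹) = x * (h * M.φ (sr 0, 1)) * x⁻¹ by group, hhdef,
      ← map_mul, show ((1, r 1) * (sr 0, 1) : D × D) = (sr 0, 1) * (1, r 1) by decide, map_mul]
    group
  have hw3 : (⟨_, hwC⟩ : C) ^ 3 = 1 := Subtype.ext (by
    show (x * h * x⁻¹) ^ 3 = 1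
    rw [conj_pow, hhdef, ← map_pow, show ((1, r 1) : D × D) ^ 3 = 1 by decide, map_one, mul_one,
      mul_inv_cancel])
  obtain ⟨P, hP⟩ := (IsPGroup.of_card (G := zpowers (⟨g, hgC⟩ : C)) (p := 3) (n := 1) (by
    rw [Nat.card_zpowers, Subgroup.orderOf_mk, pow_one]
    exact orderOf_eq_prime hg3 fun e =>
      absurd (M.inj (e.trans (map_one _).symm)) (by decide))).exists_le_sylow
  have hgP := hP (Subgroup.mem_zpowers _)
  have hPT : ∀ c ∈ (P : Subgroup C), ∃ i, (c : G) = M.φ (r i, 1) := by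
    intro c hcP
    obtain ⟨R, hR⟩ := (P.isPGroup'.map C.subtype).exists_le_sylow
    obtain ⟨k, hk⟩ := MulAction.exists_smul_eq G R T
    have hkmem : ∀ z ∈ (R : Subgroup G), k * z * k⁻¹ ∈ (T : Subgroup G) := fun z hz => by
      rw [← hk, Sylow.coe_subgroup_smul]
      exact Subgroup.smul_mem_pointwise_smul z (MulAut.conj k) _ hz
    have hcR := hkmem _ (hR ⟨c, hcP, rfl⟩)
    have hgR := hkmem _ (hR ⟨⟨g, hgC⟩, hgP, rfl⟩)
    have hcg : (c : G) * g = g * c := by
      have e := hcomm _ hcR _ hgR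
      simp only [Subgroup.coe_subtype, mul_assoc, inv_mul_cancel_left] at e
      exact mul_right_cancel (b := k⁻¹) (mul_left_cancel (a := k) (by simpa [mul_assoc] using e))
    have hgT : g ∈ (T : Subgroup G) := (M.mem _).mpr (by decide)
    have hcN := hloc g hgT (fun e => absurd (M.inj (e.trans (map_one _).symm)) (by decide))
      (Subgroup.mem_centralizer_singleton_iff.mpr hcg)
    have hc3 : (c : G) ^ 3 = 1 := by
      have := hel _ hcR
      rw [conj_pow, conj_eq_one_iff] at this
      exact this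
    obtain ⟨p, hp⟩ := (mem_N_iff M).mp hcN
    have key : ∀ p : D × D, p ^ 3 = 1 → p * (1, sr 0) = (1, sr 0) * p → ∃ i, p = (r i, 1) := by decide
    obtain ⟨i, rfl⟩ := key p (M.inj (by rw [map_pow, hp, hc3, map_one])) (M.inj (by
      rw [map_mul, map_mul, hp]
      exact Subgroup.mem_centralizer_singleton_iff.mp c.2))
    exact ⟨i, hp.symm⟩
  obtain ⟨Q, hQ⟩ := (IsPGroup.of_card (G := zpowers (⟨_, hwC⟩ : C)) (p := 3) (n := 1) (by
    rw [Nat.card_zpowers, pow_one]
    exact orderOf_eq_prime hw3 fun e => absurd (M.inj ((conj_eq_one_iff.mp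
      (congrArg Subtype.val e)).trans (map_one _).symm)) (by decide))).exists_le_sylow
  obtain ⟨c, hcQ⟩ := MulAction.exists_smul_eq C Q P
  have hmem : c * ⟨_, hwC⟩ * c⁻¹ ∈ (P : Subgroup C) := by
    rw [← hcQ, Sylow.coe_subgroup_smul]
    exact Subgroup.smul_mem_pointwise_smul _ (MulAut.conj c) _ (hQ (Subgroup.mem_zpowers _))
  obtain ⟨i, hi⟩ := hPT _ hmem
  have hrot3 : ∀ i : ZMod 3, ((r i, 1) : D × D) ^ 3 = 1 := by decide
  have hi' : (c : G) * x * h * ((c : G) * x)⁻¹ = M.φ (r i, 1) := by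
    rw [← hi]
    show _ = (c : G) * (x * h * x⁻¹) * (c : G)⁻¹
    group
  have hhT : h ∈ (T : Subgroup G) := (M.mem _).mpr (by decide)
  have hyN := mem_N_of_conj M hel hcomm hloc (x := (c : G) * x) hhT
    (fun e => absurd (M.inj (e.trans (map_one _).symm)) (by decide))
    (hi' ▸ (M.mem _).mpr (hrot3 i))
  obtain ⟨p, hp⟩ := (mem_N_iff M).mp hyN
  have key : ∀ (p : D × D) (i : ZMod 3), p * (1, r 1) * p⁻¹ ≠ (r i, 1) := by decide
  refine key p i (M.inj ?_)
  rw [map_mul, map_mul, map_inv, hp]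
  exact hi'

theorem exists_model_good (hel : ∀ t ∈ (T : Subgroup G), t ^ 3 = 1)
    (hcomm : ∀ s ∈ (T : Subgroup G), ∀ t ∈ (T : Subgroup G), s * t = t * s)
    (hloc : ∀ t ∈ (T : Subgroup G), t ≠ 1 → centralizer {t} ≤ normalizer ((T : Subgroup G) : Set G))
    (M : Model G T) :
    ∃ M' : Model G T, ∃ K : Subgroup G, K.Normal ∧ M'.φ (sr 0, 1) ∈ K ∧ K ≠ ⊤ := by
  by_cases haz : IsConj (M.φ (sr 0, 1)) (M.φ (sr 0, sr 0))
  · refine ⟨M.swap, exists_normal_a M.swap hel hcomm hloc (not_conj_ab M.swap hel hcomm hloc) ?_⟩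
    intro h
    have h' : IsConj (M.φ (1, sr 0)) (M.φ (sr 0, sr 0)) := h
    exact not_conj_ab M hel hcomm hloc (haz.trans h'.symm)
  · exact ⟨M, exists_normal_a M hel hcomm hloc (not_conj_ab M hel hcomm hloc) haz⟩

theorem card_mulAut_cyclic {P : Type*} [Group P] [Finite P] {q : ℕ} (hq : q.Prime)
    (hP : Nat.card P = q) : Nat.card (MulAut P) = q - 1 := by
  haveI := Fact.mk hq
  haveI := isCyclic_of_prime_card hP
  rw [IsCyclic.card_mulAut, hP, Nat.totient_prime hq]

/-- A prime-order subgroup cannot be normalized by too large a 3-group. -/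
theorem no_normalized (_hel : ∀ t ∈ (T : Subgroup G), t ^ 3 = 1)
    (hloc : ∀ t ∈ (T : Subgroup G), t ≠ 1 → centralizer {t} ≤ normalizer ((T : Subgroup G) : Set G))
    (hN : Nat.card (normalizer ((T : Subgroup G) : Set G)) = 36)
    {q : ℕ} (hq : q.Prime) (hq5 : 5 ≤ q) {P : Subgroup G} (hP : Nat.card P = q) {e : ℕ}
    (hbig : ¬ 3 ^ e ∣ q - 1) (he : 3 ^ e ∣ Nat.card (normalizer (P : Set G))) : False := by
  classical
  obtain ⟨R, hR⟩ := Sylow.exists_subgroup_card_pow_prime 3 he
  set f : R →* MulAut P := P.normalizerMonoidHom.comp R.subtype with hf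
  have hker : f.ker ≠ ⊥ := by
    intro hbot
    refine hbig ?_
    rw [← hR, Nat.card_congr (MonoidHom.ofInjective ((MonoidHom.ker_eq_bot_iff f).mp hbot)).toEquiv,
      ← card_mulAut_cyclic hq hP]
    exact Subgroup.card_subgroup_dvd_card _
  obtain ⟨⟨⟨t, htn⟩, htR⟩, ht, htne⟩ := f.ker.bot_or_exists_ne_one.resolve_left hker
  have hcent : ∀ y ∈ P, t * y = y * t := fun y hy => by
    have := congrArg Subtype.val (DFunLike.congr_fun ((MonoidHom.mem_ker).mp ht) ⟨y, hy⟩)
    exact mul_inv_eq_iff_eq_mul.mp this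
  have htp : IsPGroup 3 (zpowers t) := by
    refine (((IsPGroup.of_card hR).map (normalizer (P : Set G)).subtype).to_le ?_)
    exact zpowers_le.mpr ⟨⟨t, htn⟩, htR, rfl⟩
  obtain ⟨R', hR'⟩ := htp.exists_le_sylow
  obtain ⟨k, hk⟩ := MulAction.exists_smul_eq G R' T
  have hkt : k * t * k⁻¹ ∈ (T : Subgroup G) := by
    rw [← hk, Sylow.coe_subgroup_smul]
    exact Subgroup.smul_mem_pointwise_smul t (MulAut.conj k) _ (hR' (Subgroup.mem_zpowers t))
  have ht1 : k * t * k⁻¹ ≠ 1 := fun e => htne (Subtype.ext (Subtype.ext (conj_eq_one_iff.mp e)))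
  have hle : P.map (MulAut.conj k).toMonoidHom ≤ normalizer ((T : Subgroup G) : Set G) := by
    rintro _ ⟨y, hy, rfl⟩
    refine hloc _ hkt ht1 (Subgroup.mem_centralizer_singleton_iff.mpr ?_)
    show k * y * k⁻¹ * (k * t * k⁻¹) = k * t * k⁻¹ * (k * y * k⁻¹)
    rw [show k * y * k⁻¹ * (k * t * k⁻¹) = k * (y * t) * k⁻¹ by group, ← hcent y hy]
    group
  have h36 := Subgroup.card_dvd_of_le hle
  rw [Subgroup.card_map_of_injective (MulAut.conj k).injective, hP, hN] at h36
  have h6 : q ∣ 2 ^ 2 * 3 ^ 2 := by norm_num; exact h36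
  rcases hq.dvd_mul.mp h6 with h | h <;> have := Nat.le_of_dvd (by norm_num) (hq.dvd_of_dvd_pow h) <;> omega

theorem normalizer_eq_top (hT : IsElementaryAbelian 3 (T : Subgroup G)) (hcard : Nat.card T = 9)
    (hC : centralizer ((T : Subgroup G) : Set G) = T)
    (hN : Nat.card (normalizer ((T : Subgroup G) : Set G)) = 36)
    (hsq : ∀ x ∈ normalizer ((T : Subgroup G) : Set G), x * x ∈ (T : Subgroup G))
    (hloc : ∀ t ∈ (T : Subgroup G), t ≠ 1 → centralizer {t} ≤ normalizer ((T : Subgroup G) : Set G)) :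
    normalizer ((T : Subgroup G) : Set G) = ⊤ := by
  classical
  haveI : IsMulCommutative (T : Subgroup G) := hT.1
  have hel : ∀ t ∈ (T : Subgroup G), t ^ 3 = 1 := hT.2
  have hcomm : ∀ s ∈ (T : Subgroup G), ∀ t ∈ (T : Subgroup G), s * t = t * s := fun s hs t ht =>
    congrArg Subtype.val (hT.1.is_comm.comm ⟨s, hs⟩ ⟨t, ht⟩)
  obtain ⟨M₀⟩ := exists_model hT hcard hC hN hsq
  obtain ⟨M, K, hK, haK, hKtop⟩ := exists_model_good hel hcomm hloc M₀
  set N := normalizer ((T : Subgroup G) : Set G) with hNdef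
  set a := M.φ (sr 0, 1) with hadef
  set g := M.φ (r 1, 1) with hgdef
  set h := M.φ (1, r 1) with hhdef
  set L := Subgroup.normalClosure ({a} : Set G) with hLdef
  have haL : a ∈ L := Subgroup.subset_normalClosure rfl
  have hLtop : L ≠ ⊤ := fun e => hKtop (top_le_iff.mp (e ▸ Subgroup.normalClosure_le_normal
    (Set.singleton_subset_iff.mpr haK)))
  haveI hLn : L.Normal := Subgroup.normalClosure_normal
  have hgL : g ∈ L := by
    have : g = a * (g * a * g⁻¹) := by
      rw [hgdef, hadef, ← map_inv, ← map_mul, ← map_mul, ← map_mul]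
      exact congrArg M.φ (by decide)
    rw [this]
    exact mul_mem haL (hLn.conj_mem _ haL g)
  have hg1 : g ≠ 1 := fun e => absurd (M.inj (e.trans (map_one _).symm)) (by decide)
  have hh1 : h ≠ 1 := fun e => absurd (M.inj (e.trans (map_one _).symm)) (by decide)
  have hgT : g ∈ (T : Subgroup G) := (M.mem _).mpr (by decide)
  have hhT : h ∈ (T : Subgroup G) := (M.mem _).mpr (by decide)
  by_cases hhL : h ∈ L
  · -- transfer
    exfalso
    have hgen : ∀ d, M.φ (d, 1) ∈ L := by
      have key : ∀ d : D, ∃ i k : Fin 3, ((d, 1) : D × D) = (sr 0, 1) ^ (k : ℕ) * (r 1, 1) ^ (i : ℕ) := by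
        decide
      intro d
      obtain ⟨i, k, e⟩ := key d
      rw [e, map_mul, map_pow, map_pow]
      exact mul_mem (pow_mem haL _) (pow_mem hgL _)
    have hrotL : ∀ j, M.φ (1, r j) ∈ L := by
      have key : ∀ j : ZMod 3, ∃ i : Fin 3, ((1, r j) : D × D) = (1, r 1) ^ (i : ℕ) := by decide
      intro j
      obtain ⟨i, e⟩ := key j
      rw [e, map_pow]
      exact pow_mem hhL _
    have hTL : (T : Subgroup G) ≤ L := by
      intro t ht
      obtain ⟨p, rfl⟩ := (mem_N_iff M).mp (Subgroup.le_normalizer ht)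
      have key : ∀ p : D × D, p ^ 3 = 1 → ∃ i j, p = (r i, 1) * (1, r j) := by decide
      obtain ⟨i, j, rfl⟩ := key p ((M.mem p).mp ht)
      rw [map_mul]
      exact mul_mem (hgen _) (hrotL j)
    have hbL : M.φ (1, sr 0) ∉ L := by
      intro hb
      apply hLtop
      have hNL : N ≤ L := by
        intro x hx
        obtain ⟨p, rfl⟩ := (mem_N_iff M).mp hx
        have key : ∀ p : D × D, ∃ (j : ZMod 3) (k : Fin 2), p = (p.1, 1) * (1, sr 0) ^ (k : ℕ) * (1, r j) := by
          decide
        obtain ⟨j, k, e⟩ := key p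
        rw [e, map_mul, map_mul, map_pow]
        exact mul_mem (mul_mem (hgen _) (pow_mem hb _)) (hrotL j)
      have h2 := Sylow.normalizer_sup_eq_top (N := L) (T.subtype hTL)
      rw [Sylow.coe_subtype, Subgroup.map_subgroupOf_eq_of_le hTL] at h2
      rw [← h2, eq_comm, sup_eq_right]
      exact hNL
    have hLN : ∀ x ∈ L, x ∈ N → ∀ j, x⁻¹ * M.φ (1, r j) * x = M.φ (1, r j) := by
      intro x hxL hxN j
      obtain ⟨p, rfl⟩ := (mem_N_iff M).mp hxN
      have key : ∀ (p : D × D) (j : ZMod 3), p⁻¹ * (1, r j) * p = (1, r j) ∨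
          ∃ i : ZMod 3, (1, sr 0) = (p.1, 1)⁻¹ * p * (1, r i) := by decide
      rcases key p j with e | ⟨i, e⟩
      · rw [← map_inv, ← map_mul, ← map_mul, e]
      · refine absurd ?_ hbL
        rw [e, map_mul, map_mul, map_inv]
        exact mul_mem (mul_mem (inv_mem (hgen _)) hxL) (hrotL i)
    set P : Sylow 3 L := T.subtype hTL with hPdef
    have hPcoe : (P : Subgroup L) = (T : Subgroup G).subgroupOf L := T.coe_subtype hTL
    haveI : IsMulCommutative (P : Subgroup L) := ⟨⟨fun u v => Subtype.ext (Subtype.ext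
      (hcomm _ (Subgroup.mem_subgroupOf.mp (hPcoe ▸ u.2)) _ (Subgroup.mem_subgroupOf.mp (hPcoe ▸ v.2))))⟩⟩
    open scoped IsMulCommutative in
    let V : L →* (P : Subgroup L) := MonoidHom.transfer (MonoidHom.id (P : Subgroup L))
    set hL' : L := ⟨h, hhL⟩
    have hkey : ∀ (k : ℕ) (g₀ : L), g₀⁻¹ * hL' ^ k * g₀ ∈ (P : Subgroup L) →
        g₀⁻¹ * hL' ^ k * g₀ = hL' ^ k := by
      intro k g₀ hmem
      rw [hPcoe, Subgroup.mem_subgroupOf] at hmem
      apply Subtype.ext
      simp only [Subgroup.coe_mul, InvMemClass.coe_inv, SubmonoidClass.coe_pow] at hmem ⊢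
      change (g₀ : G)⁻¹ * h ^ k * g₀ ∈ (T : Subgroup G) at hmem
      show (g₀ : G)⁻¹ * h ^ k * g₀ = h ^ k
      obtain ⟨j, hj⟩ : ∃ j, h ^ k = M.φ (1, r j) := ⟨(k : ZMod 3), by
        rw [hhdef, ← map_pow, Prod.pow_mk, one_pow, r_one_pow]⟩
      by_cases h0 : h ^ k = 1
      · rw [h0, mul_one, inv_mul_cancel]
      have hN' := mem_N_of_conj M hel hcomm hloc (x := (g₀ : G)⁻¹) (pow_mem hhT k) h0 (by rwa [inv_inv])
      rw [inv_mem_iff] at hN'
      rw [hj]
      exact hLN _ g₀.2 hN' j
    have hVh : ((V hL' : (P : Subgroup L)) : L) = hL' ^ (P : Subgroup L).index := by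
      open scoped IsMulCommutative in
      rw [show V hL' = _ from MonoidHom.transfer_eq_pow (MonoidHom.id (P : Subgroup L)) hL' hkey]
      rfl
    have hVone : ∀ y : L, (y : G) ∈ (Subgroup.closure (Group.conjugatesOfSet ({a} : Set G))) → V y = 1 := by
      have hle : Subgroup.closure (Group.conjugatesOfSet ({a} : Set G)) ≤ V.ker.map L.subtype := by
        rw [Subgroup.closure_le]
        intro y hy
        have hyL : y ∈ L := Subgroup.subset_closure hy
        refine ⟨⟨y, hyL⟩, ?_, rfl⟩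
        show V ⟨y, hyL⟩ = 1
        obtain ⟨z, hz, hzc⟩ := Group.mem_conjugatesOfSet_iff.mp hy
        rw [Set.mem_singleton_iff] at hz
        subst hz
        obtain ⟨c, hc⟩ := _root_.isConj_iff.mp hzc
        have h2 : (⟨y, hyL⟩ : L) * ⟨y, hyL⟩ = 1 := Subtype.ext (by
          show y * y = 1
          rw [← hc, show c * a * c⁻¹ * (c * a * c⁻¹) = c * (a * a) * c⁻¹ by group, hadef, ← map_mul,
            show ((sr 0, 1) * (sr 0, 1) : D × D) = 1 by decide, map_one, mul_one, mul_inv_cancel])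
        set v := V ⟨y, hyL⟩ with hv
        have hv2 : v * v = 1 := by rw [hv, ← map_mul, h2, map_one]
        have hv3 : v ^ 3 = 1 := Subtype.ext (Subtype.ext (by
          simpa using hel _ (Subgroup.mem_subgroupOf.mp (hPcoe ▸ v.2))))
        rwa [pow_succ, pow_two, hv2, one_mul] at hv3
      intro y hy
      obtain ⟨y', hy', e⟩ := hle hy
      rw [← Subtype.ext e]
      exact hy'
    have hV1 : V hL' = 1 := hVone hL' hhL
    rw [hV1, OneMemClass.coe_one] at hVh
    have hpow : h ^ (P : Subgroup L).index = 1 := by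
      have := congrArg Subtype.val hVh
      simpa [hL'] using this.symm
    have hdvd := orderOf_dvd_of_pow_eq_one hpow
    rw [orderOf_eq_prime (hel h hhT) hh1] at hdvd
    exact P.not_dvd_index hdvd
  · -- self-centralizing of order three
    have hno : ∀ j : ZMod 3, j ≠ 0 → M.φ (1, r j) ∉ L := by
      have key : ∀ j : ZMod 3, j ≠ 0 → ∃ i : Fin 3, ((1, r 1) : D × D) = (1, r j) ^ (i : ℕ) := by decide
      intro j hj hm
      obtain ⟨i, e⟩ := key j hj
      exact hhL (by rw [hhdef, e, map_pow]; exact pow_mem hm _)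
    have hCL : ∀ y ∈ L, y * g = g * y → ∃ i, y = M.φ (r i, 1) := by
      intro y hyL hy
      obtain ⟨p, rfl⟩ := (mem_N_iff M).mp (hloc g hgT hg1 (Subgroup.mem_centralizer_singleton_iff.mpr hy))
      have hp : p * (r 1, 1) = (r 1, 1) * p := M.inj (by rw [map_mul, map_mul]; exact hy)
      have key : ∀ p : D × D, p * (r 1, 1) = (r 1, 1) * p →
          (∃ i, p = (r i, 1)) ∨ (∃ i j, j ≠ 0 ∧ ((1, r j) : D × D) = (r i, 1) * p) ∨
            ∃ j, j ≠ 0 ∧ ((1, r j) : D × D) = ⁅p, (1, r 1)⁆ := by decide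
      rcases key p hp with ⟨i, rfl⟩ | ⟨i, j, hj, e⟩ | ⟨j, hj, e⟩
      · exact ⟨i, rfl⟩
      · refine absurd ?_ (hno j hj)
        rw [e, map_mul]
        refine mul_mem ?_ hyL
        have key2 : ∀ i : ZMod 3, ∃ k : Fin 3, ((r i, 1) : D × D) = (r 1, 1) ^ (k : ℕ) := by decide
        obtain ⟨k, ek⟩ := key2 i
        rw [ek, map_pow]
        exact pow_mem hgL _
      · refine absurd ?_ (hno j hj)
        rw [e, commutatorElement_def, map_mul, map_mul, map_mul, map_inv, map_inv, mul_assoc, mul_assoc]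
        refine mul_mem hyL ?_
        rw [← mul_assoc]
        exact hLn.conj_mem _ (inv_mem hyL) _
    set X : Subgroup L := zpowers ⟨g, hgL⟩ with hXdef
    have hX : Nat.card X = 3 := by
      rw [hXdef, Nat.card_zpowers, Subgroup.orderOf_mk]
      exact orderOf_eq_prime (hel g hgT) hg1
    have hXC : centralizer (X : Set L) = X := by
      refine le_antisymm (fun y hy => ?_) ?_
      · obtain ⟨i, hi⟩ := hCL y y.2 (congrArg Subtype.val
          (Subgroup.mem_centralizer_iff.mp hy ⟨g, hgL⟩ (Subgroup.mem_zpowers _))).symm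
        have key2 : ∀ i : ZMod 3, ∃ k : Fin 3, ((r i, 1) : D × D) = (r 1, 1) ^ (k : ℕ) := by decide
        obtain ⟨k, ek⟩ := key2 i
        refine Subgroup.mem_zpowers_iff.mpr ⟨((k : ℕ) : ℤ), Subtype.ext ?_⟩
        rw [zpow_natCast, SubmonoidClass.coe_pow, hi, ek, map_pow]
      · intro y hy
        rw [Subgroup.mem_centralizer_iff]
        intro z hz
        exact congrArg Subtype.val (mul_comm' (⟨z, hz⟩ : X) ⟨y, hy⟩)
    -- no normal subgroup of order prime to three
    have hO : ∀ O : Subgroup G, O.Normal → (Nat.card O).Coprime 3 → O = ⊥ := by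
      intro O hOn hOc
      have hcyc : ¬ IsCyclic (T : Subgroup G) := fun hcyc => by
        obtain ⟨t, ht⟩ := IsCyclic.exists_generator (α := (T : Subgroup G))
        have h3 : t ^ 3 = 1 := Subtype.ext (hel t t.2)
        have := orderOf_dvd_of_pow_eq_one h3
        rw [orderOf_eq_card_of_forall_mem_zpowers ht, hcard] at this
        norm_num at this
      have hTnorm : (T : Subgroup G) ≤ normalizer (O : Set G) := by
        rw [Subgroup.normalizer_eq_top]; exact le_top
      have hgenO := Grp.generated_by_centralizers (T : Subgroup G) O hcyc hTnorm (by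
        rw [hcard]
        exact (Nat.Coprime.pow_right 2 hOc).symm)
      have hON : O ≤ N := by
        rw [← hgenO]
        exact iSup₂_le fun t ht => inf_le_right.trans (hloc t ht.1 ht.2)
      refine (Subgroup.eq_bot_iff_forall O).mpr fun y hy => ?_
      have hcent : y ∈ centralizer ((T : Subgroup G) : Set G) := by
        refine Subgroup.mem_centralizer_iff.mpr fun t ht => ?_
        have h1 : t * y * t⁻¹ * y⁻¹ ∈ O := mul_mem (hOn.conj_mem y hy t) (inv_mem hy)
        have h2 : t * y * t⁻¹ * y⁻¹ ∈ (T : Subgroup G) := by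
          rw [show t * y * t⁻¹ * y⁻¹ = t * (y * t⁻¹ * y⁻¹) by group]
          exact mul_mem ht ((Subgroup.mem_normalizer_iff.mp (hON hy) _).mp (inv_mem ht))
        have h3 : orderOf (t * y * t⁻¹ * y⁻¹) ∣ Nat.gcd (Nat.card O) 3 :=
          Nat.dvd_gcd (Subgroup.orderOf_dvd_natCard O h1) (orderOf_dvd_of_pow_eq_one (hel _ h2))
        rw [hOc.gcd_eq_one, Nat.dvd_one, orderOf_eq_one_iff, mul_inv_eq_one, mul_inv_eq_iff_eq_mul] at h3
        exact h3
      rw [hC] at hcent
      have h3 : orderOf y ∣ Nat.gcd (Nat.card O) 3 :=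
        Nat.dvd_gcd (Subgroup.orderOf_dvd_natCard O hy) (orderOf_dvd_of_pow_eq_one (hel y hcent))
      rwa [hOc.gcd_eq_one, Nat.dvd_one, orderOf_eq_one_iff] at h3
    have hcore : ∀ N0 : Subgroup L, N0.Normal → (Nat.card N0).Coprime 3 → N0 = ⊥ := by
      intro N0 hN0 hc0
      haveI : (pPrimeCore 3 L).Normal := Grp.pPrimeCore_isNormal
      have hchar : ((pPrimeCore 3 L).map L.subtype).Normal := by
        refine ⟨fun y hy c => ?_⟩
        obtain ⟨z, hz, rfl⟩ := hy
        set φc : L ≃* L := MulAut.conjNormal c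
        have hn : ((pPrimeCore 3 L).map φc.toMonoidHom).Normal :=
          Subgroup.Normal.map inferInstance _ φc.surjective
        have hle := Grp.le_pPrimeCore (p := 3) hn (by
          rw [Subgroup.card_map_of_injective (f := φc.toMonoidHom) φc.injective]
          exact Grp.pPrimeCore_coprime)
        exact ⟨φc z, hle ⟨z, hz, rfl⟩, MulAut.conjNormal_apply c z⟩
      have h1 := hO _ hchar (by
        rw [Subgroup.card_map_of_injective L.subtype_injective]; exact Grp.pPrimeCore_coprime)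
      rw [Subgroup.map_eq_bot_iff_of_injective _ L.subtype_injective] at h1
      exact le_bot_iff.mp (h1 ▸ Grp.le_pPrimeCore hN0 hc0)
    -- a prime `q` with small Sylow number in `L` is impossible
    have hsyl : ∀ q e : ℕ, q.Prime → 5 ≤ q → q ∣ Nat.card L → ¬ q ^ 2 ∣ Nat.card L → ¬ 3 ^ e ∣ q - 1 →
        (∀ P : Sylow q L, Nat.card (P : Subgroup L) = q →
          3 ^ e ∣ 3 * Nat.card (normalizer ((P : Subgroup L) : Set L))) → 3 * 3 ∣ Nat.card G → False := by
      intro q e hq hq5 hqL hq2 hbig hn h9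
      haveI := Fact.mk hq
      let P : Sylow q L := default
      have hPq : Nat.card (P : Subgroup L) = q := by
        rw [Sylow.card_eq_multiplicity]
        have h1 : 1 ≤ (Nat.card L).factorization q :=
          (hq.pow_dvd_iff_le_factorization Nat.card_pos.ne').mp (by rwa [pow_one])
        have h2 : ¬ 2 ≤ (Nat.card L).factorization q := fun h2 =>
          hq2 ((hq.pow_dvd_iff_le_factorization Nat.card_pos.ne').mpr h2)
        rw [show (Nat.card L).factorization q = 1 by omega, pow_one]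
      set P' := (P : Subgroup L).map L.subtype with hP'
      have hcard' : Nat.card P' = q := by
        rw [hP', Subgroup.card_map_of_injective L.subtype_injective, hPq]
      refine no_normalized hel hloc hN hq hq5 hcard' hbig (dvd_trans (hn P hPq) ?_)
      set H := normalizer (P' : Set G) with hH
      have hsup : H ⊔ L = ⊤ := Sylow.normalizer_sup_eq_top P
      have hI : Nat.card ↥(H ⊓ L) = Nat.card (normalizer ((P : Subgroup L) : Set L)) := by
        have e1 : H.subgroupOf L = normalizer ((P : Subgroup L) : Set L) := by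
          ext y
          rw [Subgroup.mem_subgroupOf, hH, Subgroup.mem_normalizer_iff, Subgroup.mem_normalizer_iff]
          constructor
          · intro hy z
            have := hy (z : G)
            rwa [show (z : G) = L.subtype z from rfl, hP', Subgroup.mem_map_iff_mem L.subtype_injective,
              show (y : G) * L.subtype z * (y : G)⁻¹ = L.subtype (y * z * y⁻¹) from rfl,
              Subgroup.mem_map_iff_mem L.subtype_injective] at this
          · intro hy z
            constructor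
            · rintro ⟨w, hw, rfl⟩
              exact ⟨_, (hy w).mp hw, rfl⟩
            · rintro ⟨w, hw, hwe⟩
              have hzL : z ∈ L := by
                have : z = (y : G)⁻¹ * (w : G) * y := by
                  rw [show (w : G) = (y : G) * z * (y : G)⁻¹ from hwe]; group
                rw [this]
                exact mul_mem (mul_mem (inv_mem y.2) w.2) y.2
              refine ⟨⟨z, hzL⟩, (hy ⟨z, hzL⟩).mpr ?_, rfl⟩
              rw [show y * ⟨z, hzL⟩ * y⁻¹ = w from Subtype.ext hwe.symm]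
              exact hw
        rw [← e1, ← Subgroup.card_map_of_injective L.subtype_injective, Subgroup.subgroupOf_map_subtype]
      have hcardH : Nat.card H = Nat.card ↥(H ⊓ L) * L.index := by
        have h1 := Grp.relIndex_mul_card_inf H L
        have h2 : L.relIndex H = L.index := by
          rw [← Subgroup.relIndex_top_right, ← hsup, Subgroup.relIndex_sup_right]
        rw [← h1, h2]
      rw [hcardH, hI, mul_comm 3]
      refine mul_dvd_mul_left _ ?_
      have hcG := L.card_mul_index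
      have h9L : ¬ 9 ∣ Nat.card L := by
        intro h9'
        obtain ⟨R, hR⟩ := Sylow.exists_subgroup_card_pow_prime 3 (n := 2) (h9' : 3 ^ 2 ∣ Nat.card L)
        obtain ⟨R', hR'⟩ := ((IsPGroup.of_card hR).map L.subtype).exists_le_sylow
        have hR'eq : R.map L.subtype = (R' : Subgroup G) := by
          refine Subgroup.eq_of_le_of_card_ge hR' ?_
          rw [Subgroup.card_map_of_injective L.subtype_injective, hR]
          obtain ⟨k, hk⟩ := MulAction.exists_smul_eq G T R'
          rw [← hk, Sylow.coe_subgroup_smul, Nat.card_congr (Subgroup.equivSMul (MulAut.conj k) (T : Subgroup G)).toEquiv.symm, hcard]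
          norm_num
        obtain ⟨k, hk⟩ := MulAction.exists_smul_eq G R' T
        apply hhL
        have hh' : h ∈ (T : Subgroup G) := hhT
        rw [← hk, Sylow.coe_subgroup_smul] at hh'
        obtain ⟨w, hw, hwe⟩ := hh'
        rw [← hR'eq] at hw
        have hwL : w ∈ L := Subgroup.map_subtype_le R hw
        rw [← hwe]
        exact hLn.conj_mem w hwL k
      by_contra h3'
      rw [← hcG] at h9
      have hcop : Nat.Coprime 3 L.index := Nat.prime_three.coprime_iff_not_dvd.mpr h3'
      exact h9L ((Nat.Coprime.mul_left hcop hcop).dvd_of_dvd_mul_right h9)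
    have h9G : 3 * 3 ∣ Nat.card G := by
      have := Subgroup.card_subgroup_dvd_card (T : Subgroup G)
      rwa [hcard] at this
    rcases SCThree.concl_of_self_centralizing hX hXC with
      ⟨N0, hN0, -, hc0, hq⟩ | ⟨N0, hN0, -, hsq0, ⟨φ⟩⟩ | hφ
    · -- order six
      have hN0' := hcore N0 hN0 hc0
      have hcL : Nat.card L = Nat.card (L ⧸ N0) := by
        have := Subgroup.card_eq_card_quotient_mul_card_subgroup N0
        rw [hN0', Subgroup.card_bot, mul_one] at this
        rw [hN0']
        exact this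
      have hL6 : Nat.card L ∣ 6 := by
        rcases hq with e | ⟨⟨ψ⟩⟩
        · rw [hcL, e]; norm_num
        · rw [hcL, Nat.card_congr ψ.toEquiv, Nat.card_perm, Nat.card_fin]
          rfl
      refine eq_top_iff.mpr fun c _ => ?_
      have hcg : c * g * c⁻¹ ∈ L := hLn.conj_mem g hgL c
      refine mem_N_of_conj M hel hcomm hloc hgT hg1 ?_
      have hidx : X.index ≤ 2 := by
        have h1 := X.card_mul_index
        rw [hX] at h1
        have := Nat.le_of_dvd (by norm_num) hL6
        omega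
      set w : L := ⟨_, hcg⟩
      have hw3 : w ^ 3 = 1 := Subtype.ext (by
        show (c * g * c⁻¹) ^ 3 = 1
        rw [conj_pow, hel g hgT, mul_one, mul_inv_cancel])
      have hw2 : w * w ∈ X := by
        rcases Nat.le_one_iff_eq_zero_or_eq_one.mp (show X.index - 1 ≤ 1 by omega) with e | e
        · have : X.index = 1 := by
            have := Subgroup.index_ne_zero_of_finite (H := X)
            omega
          rw [Subgroup.index_eq_one] at this
          rw [this]
          exact Subgroup.mem_top _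
        · exact Subgroup.mul_self_mem_of_index_two (by omega) w
      have hwX : w ∈ X := by
        have : w = (w * w) * (w * w) := by
          rw [show w * w * (w * w) = w ^ 3 * w by simp [pow_succ, mul_assoc], hw3, one_mul]
        rw [this]
        exact mul_mem hw2 hw2
      have hmap : X.map L.subtype ≤ T := by
        rw [hXdef, MonoidHom.map_zpowers]
        exact zpowers_le.mpr hgT
      exact hmap ⟨w, hwX, rfl⟩
    · exfalso
      have hc0 : (Nat.card N0).Coprime 3 := by
        rw [Nat.coprime_comm]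
        refine Nat.prime_three.coprime_iff_not_dvd.mpr fun e => ?_
        obtain ⟨n, hn⟩ := exists_prime_orderOf_dvd_card' (G := N0) 3 e
        have h1 : orderOf n ∣ 2 := orderOf_dvd_of_pow_eq_one (Subtype.ext (hsq0 n n.2))
        rw [hn] at h1
        norm_num at h1
      have hN0' := hcore N0 hN0 hc0
      have hcL : Nat.card L = 60 := by
        rw [Subgroup.card_eq_card_quotient_mul_card_subgroup N0, Nat.card_congr φ.toEquiv, hN0',
          Subgroup.card_bot, nat_card_alternatingGroup, Nat.card_fin]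
        rfl
      exact hsyl 5 1 (by norm_num) le_rfl (by rw [hcL]; norm_num) (by rw [hcL]; norm_num) (by norm_num)
        (fun P _ => by simp) h9G
    · exfalso
      obtain ⟨φ⟩ := hφ
      haveI := Fact.mk (show Nat.Prime 7 by norm_num)
      have hcL : Nat.card L = 168 := by
        rw [Nat.card_congr φ.toEquiv]
        have := Dickson.card_psl_odd (F := ZMod 7) (by rw [ZMod.card]; decide)
        rw [ZMod.card] at this
        omega
      refine hsyl 7 2 (by norm_num) (by norm_num) (by rw [hcL]; norm_num) (by rw [hcL]; norm_num)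
        (by norm_num) (fun P hP7 => ?_) h9G
      have hn := Sylow.card_eq_index_normalizer P
      have hmod := card_sylow_modEq_one 7 L
      have hdvd : Nat.card (Sylow 7 L) ∣ 24 := by
        have h1 := P.card_dvd_index
        have h2 := (P : Subgroup L).card_mul_index
        rw [hP7, hcL] at h2
        rwa [show (P : Subgroup L).index = 24 by omega] at h1
      have hci := (normalizer ((P : Subgroup L) : Set L)).card_mul_index
      have hn' : (normalizer ((P : Subgroup L) : Set L)).index = Nat.card (Sylow 7 L) := hn.symm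
      rw [hn', hcL] at hci
      have hle : Nat.card (Sylow 7 L) ≤ 24 := Nat.le_of_dvd (by norm_num) hdvd
      rw [Nat.ModEq] at hmod
      set n := Nat.card (Sylow 7 L)
      have : n = 1 ∨ n = 8 := by
        interval_cases n <;> omega
      rcases this with e | e <;> rw [e] at hci
      · rw [show Nat.card (normalizer ((P : Subgroup L) : Set L)) = 168 by omega]; norm_num
      · rw [show Nat.card (normalizer ((P : Subgroup L) : Set L)) = 21 by omega]; norm_num

end Cfsg.Agent.Fus.NineFour
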